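import Mathlib.RingTheory.Length
import Mathlib.RingTheory.SimpleModule.Basic
import Mathlib.RingTheory.Ideal.Operations
import Mathlib.RingTheory.Ideal.Quotient.Operations
import Mathlib.RingTheory.Regular.IsSMulRegular
import Mathlib.RingTheory.Filtration
import Mathlib.Algebra.Prime.Lemmas
import Mathlib.Tactic.LinearCombination

/-! Lengths of quotients by two-generated ideals. -/

namespace Groth.Agent.H23.Node.LengthTools

universe u
variable {A : Type u} [CommRing A]

/-- Length of the quotient by two elements. -/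
noncomputable def len₂ (x y : A) : ℕ∞ := Module.length A (A ⧸ Ideal.span ({x, y} : Set A))

lemma length_congr {I J : Ideal A} (h : I = J) :
    Module.length A (A ⧸ I) = Module.length A (A ⧸ J) := by rw [h]

lemma length_mul_sup (a b : A) (I : Ideal A) (ha : ∀ z, b ∣ a * z → b ∣ z) :
    Module.length A (A ⧸ (Ideal.span {a} * I ⊔ Ideal.span {b})) =
      Module.length A (A ⧸ Ideal.span ({a, b} : Set A)) + Module.length A (A ⧸ (I ⊔ Ideal.span {b})) := by
  set M := Ideal.span {a} * I ⊔ Ideal.span {b} with hM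
  let m : A →ₗ[A] A := LinearMap.lsmul A A a
  have h1 : I ⊔ Ideal.span {b} ≤ Submodule.comap m M := by
    refine sup_le (fun x hx => ?_) (fun x hx => ?_)
    · exact Submodule.mem_sup_left (Ideal.mul_mem_mul (Ideal.mem_span_singleton_self a) hx)
    · exact Submodule.mem_sup_right (Ideal.mul_mem_left _ a hx)
  have h2 : M ≤ Submodule.comap LinearMap.id (Ideal.span ({a, b} : Set A)) := by
    refine sup_le (Ideal.mul_le_left.trans ?_) ?_ <;>
      exact (Ideal.span_singleton_le_iff_mem _).2 (Ideal.subset_span (by simp))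
  rw [Module.length_eq_add_of_exact (Submodule.mapQ (I ⊔ Ideal.span {b}) M m h1)
    (Submodule.mapQ M (Ideal.span ({a, b} : Set A)) LinearMap.id h2), add_comm]
  · rw [← LinearMap.ker_eq_bot, LinearMap.ker_eq_bot']
    intro x hx
    obtain ⟨x, rfl⟩ := Submodule.Quotient.mk_surjective _ x
    rw [Submodule.mapQ_apply, Submodule.Quotient.mk_eq_zero, hM, Submodule.mem_sup] at hx
    obtain ⟨y, hy, z, hz, hyz⟩ := hx
    obtain ⟨i, hi, rfl⟩ := Ideal.mem_span_singleton_mul.1 hy
    obtain ⟨w, rfl⟩ := Ideal.mem_span_singleton.1 hz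
    rw [Submodule.Quotient.mk_eq_zero, Submodule.mem_sup]
    have h3 : b ∣ a * (x - i) := ⟨w, by
      have : a * i + b * w = a * x := hyz
      linear_combination -this⟩
    exact ⟨i, hi, x - i, Ideal.mem_span_singleton.2 (ha _ h3), by ring⟩
  · intro x
    obtain ⟨x, rfl⟩ := Submodule.Quotient.mk_surjective _ x
    exact ⟨Submodule.Quotient.mk x, rfl⟩
  · intro x
    obtain ⟨x, rfl⟩ := Submodule.Quotient.mk_surjective _ x
    rw [Submodule.mapQ_apply, Submodule.Quotient.mk_eq_zero]
    constructor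
    · intro hx
      obtain ⟨c, d, hcd⟩ := Ideal.mem_span_pair.1 hx
      refine ⟨Submodule.Quotient.mk c, ?_⟩
      rw [Submodule.mapQ_apply, Submodule.Quotient.eq, hM]
      refine Submodule.mem_sup_right (Ideal.mem_span_singleton.2 ⟨-d, ?_⟩)
      show a * c - x = b * -d
      rw [← show c * a + d * b = x from hcd]; ring
    · rintro ⟨y, hy⟩
      obtain ⟨y, rfl⟩ := Submodule.Quotient.mk_surjective _ y
      rw [Submodule.mapQ_apply, Submodule.Quotient.eq] at hy
      have hax : a * y ∈ Ideal.span ({a, b} : Set A) := Ideal.mul_mem_right _ _ (Ideal.subset_span (by simp))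
      have := sub_mem hax (h2 hy)
      simpa [m] using this

lemma len₂_comm (x y : A) : len₂ x y = len₂ y x := by rw [len₂, len₂, Set.pair_comm]

lemma len₂_mul_left (p z y : A) (h : ∀ w, y ∣ p * w → y ∣ w) :
    len₂ (p * z) y = len₂ p y + len₂ z y := by
  have := length_mul_sup p y (Ideal.span {z}) h
  rw [Ideal.span_singleton_mul_span_singleton, ← Ideal.span_insert, ← Ideal.span_insert] at this
  exact this

lemma len₂_congr (x : A) {y y' : A} (h : x ∣ y - y') : len₂ x y = len₂ x y' := by
  obtain ⟨c, hc⟩ := h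
  refine length_congr (le_antisymm (Ideal.span_le.2 ?_) (Ideal.span_le.2 ?_)) <;>
    rintro w (rfl | rfl)
  · exact Ideal.subset_span (by simp)
  · exact Ideal.mem_span_pair.2 ⟨c, 1, by linear_combination -hc⟩
  · exact Ideal.subset_span (by simp)
  · exact Ideal.mem_span_pair.2 ⟨-c, 1, by linear_combination hc⟩

lemma len₂_unit_mul (x y : A) {u : A} (hu : IsUnit u) : len₂ x (u * y) = len₂ x y := by
  unfold len₂
  refine length_congr ?_
  rw [Ideal.span_insert, Ideal.span_insert, Ideal.span_singleton_mul_left_unit hu]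

lemma len₂_unit_mul_left (x y : A) {u : A} (hu : IsUnit u) : len₂ (u * x) y = len₂ x y := by
  rw [len₂_comm, len₂_unit_mul _ _ hu, len₂_comm]

lemma len₂_unit (x : A) {u : A} (hu : IsUnit u) : len₂ x u = 0 := by
  rw [len₂, Ideal.eq_top_of_isUnit_mem _ (Ideal.subset_span (by simp : u ∈ ({x, u} : Set A))) hu]
  exact Module.length_eq_zero

lemma len₂_pow_left (p y : A) (h : ∀ w, y ∣ p * w → y ∣ w) (n : ℕ) :
    len₂ (p ^ n) y = (n : ℕ∞) * len₂ p y := by
  induction n with
  | zero => rw [pow_zero, len₂_comm, len₂_unit _ isUnit_one]; simp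
  | succ n ih =>
    rw [pow_succ', len₂_mul_left _ _ _ h, ih, Nat.cast_succ, add_mul, one_mul, add_comm]

lemma len₂_neg (x y : A) : len₂ x (-y) = len₂ x y := by
  rw [show -y = (-1) * y by ring, len₂_unit_mul _ _ isUnit_one.neg]

lemma len₂_neg_unit_mul (x y : A) {u : A} (hu : IsUnit u) : len₂ x (-u * y) = len₂ x y :=
  len₂_unit_mul _ _ hu.neg

lemma regular_pow (p y : A) (h : ∀ w, y ∣ p * w → y ∣ w) (n : ℕ) :
    ∀ w, y ∣ p ^ n * w → y ∣ w := by
  induction n with
  | zero => intro w hw; simpa using hw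
  | succ n ih => intro w hw; exact ih _ (h _ (by rwa [← mul_assoc, ← pow_succ']))

/-- Being prime to a prime element gives regularity. -/
lemma regular_of_prime [IsDomain A] {p y : A} (hp : Prime p) (hy : ¬ p ∣ y) :
    ∀ w, y ∣ p * w → y ∣ w := by
  rintro w ⟨g, hg⟩
  obtain ⟨g', rfl⟩ := (hp.dvd_or_dvd (⟨w, hg.symm⟩ : p ∣ y * g)).resolve_left hy
  exact ⟨g', mul_left_cancel₀ hp.ne_zero (by linear_combination hg)⟩

lemma length_eq_one_of_isMaximal (I : Ideal A) [I.IsMaximal] : Module.length A (A ⧸ I) = 1 :=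
  Module.length_eq_one_iff.2 (isSimpleModule_iff_isCoatom.2 (Ideal.IsMaximal.out))

lemma colon_mul (T : A) (I : Ideal A) (hT : ∀ x y : A, T * x = T * y → x = y) :
    (Ideal.span {T} * I).colon ({T} : Set A) = I := by
  ext x
  rw [Submodule.mem_colon_singleton, smul_eq_mul]
  constructor
  · intro hx
    obtain ⟨i, hi, he⟩ := Ideal.mem_span_singleton_mul.1 hx
    rwa [← hT i x (by rw [he, mul_comm])]
  · intro hx
    exact Ideal.mem_span_singleton_mul.2 ⟨x, hx, mul_comm T x⟩

/-- Membership may be checked modulo all powers of an ideal in the radical. -/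
lemma mem_of_forall_pow [IsNoetherianRing A] (J K : Ideal A) (hK : K ≤ Ideal.jacobson ⊥) (x : A)
    (h : ∀ n : ℕ, x ∈ J ⊔ K ^ n) : x ∈ J := by
  rw [← Ideal.Quotient.eq_zero_iff_mem]
  have key := Ideal.iInf_pow_smul_eq_bot_of_le_jacobson (M := A ⧸ J) K hK
  rw [← Submodule.mem_bot A, ← key, Submodule.mem_iInf]
  intro n
  obtain ⟨j, hj, y, hy, e⟩ := Submodule.mem_sup.1 (h n)
  have : Ideal.Quotient.mk J x = y • (1 : A ⧸ J) := by
    rw [← e, map_add, Ideal.Quotient.eq_zero_iff_mem.2 hj, zero_add, Algebra.smul_def, mul_one]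
    rfl
  rw [this]
  exact Submodule.smul_mem_smul hy Submodule.mem_top

/-- Bound the ideal of fixed points by generators. -/
lemma sub_mem_of_generators [IsNoetherianRing A] (J K : Ideal A) (hK : K ≤ Ideal.jacobson ⊥)
    (G : Set A) (hGK : G ⊆ K) (σ : A → A) (hadd : ∀ x y, σ (x + y) = σ x + σ y)
    (hmul : ∀ x y, σ (x * y) = σ x * σ y) (hG : ∀ g ∈ G, σ g - g ∈ J)
    (hdec : ∀ r, ∃ c, σ c - c ∈ J ∧ r - c ∈ Ideal.span G) (r : A) : σ r - r ∈ J := by
  have h0 : σ 0 = 0 := by simpa using hadd 0 0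
  refine mem_of_forall_pow J K hK _ fun n => ?_
  induction n generalizing r with
  | zero => rw [pow_zero, Ideal.one_eq_top, sup_top_eq]; trivial
  | succ n ih =>
    obtain ⟨c, hc, hrc⟩ := hdec r
    suffices H : ∀ x ∈ Ideal.span G, σ x - x ∈ J ⊔ K ^ (n + 1) by
      have e : σ r - r = (σ (r - c) - (r - c)) + (σ c - c) := by
        have : σ r = σ (r - c) + σ c := by rw [← hadd, sub_add_cancel]
        rw [this]; ring
      rw [e]
      exact add_mem (H _ hrc) (Submodule.mem_sup_left hc)
    intro x hx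
    induction hx using Submodule.span_induction with
    | mem g hg => exact Submodule.mem_sup_left (hG g hg)
    | zero => simp [h0]
    | add x y _ _ hx hy =>
      rw [hadd, add_sub_add_comm]
      exact add_mem hx hy
    | smul a x hxG hx =>
      have hxK : x ∈ K := Ideal.span_le.2 hGK hxG
      have e : σ (a * x) - a * x = σ a * (σ x - x) + x * (σ a - a) := by rw [hmul]; ring
      rw [smul_eq_mul, e]
      refine add_mem (Ideal.mul_mem_left _ _ hx) ?_
      have : x * (σ a - a) ∈ K * (J ⊔ K ^ n) := Ideal.mul_mem_mul hxK (ih a)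
      rw [Ideal.mul_sup, ← pow_succ'] at this
      exact (sup_le_sup_right Ideal.mul_le_right _ : K * J ⊔ K ^ (n + 1) ≤ _) this

end Groth.Agent.H23.Node.LengthTools
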