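import Groth.Prelude.Def_W4c2arithlefschetzNode
import Groth.Agent.H23.PSAut
import Groth.Agent.H23.Node.LengthTools
import Mathlib.RingTheory.MvPowerSeries.NoZeroDivisors
import Mathlib.RingTheory.MvPowerSeries.Equiv
import Mathlib.RingTheory.PowerSeries.NoZeroDivisors
import Mathlib.RingTheory.DiscreteValuationRing.Basic

/-! Ring structure of the formal double point. -/

open MvPowerSeries ArLef
open Groth.Agent.H23.Node.LengthTools

namespace Groth.Agent.H23.Node.Basic

universe u
variable {B : Type u} [CommRing B] {π : B}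

local notation "P2" => MvPowerSeries (Fin 2) B

/-- The class of the `i`-th variable. -/
noncomputable def xv (π : B) (i : Fin 2) : NodeAlg B π := Ideal.Quotient.mk _ (X i)

lemma xv_zero (π : B) : xv π 0 = NodeAlg.t π := rfl
lemma xv_one (π : B) : xv π 1 = NodeAlg.e π := rfl

lemma algebraMap_eq_mk (b : B) : algebraMap B (NodeAlg B π) b = Ideal.Quotient.mk _ (C b) := rfl

lemma t_mul_e : NodeAlg.t π * NodeAlg.e π = algebraMap B (NodeAlg B π) π := by
  rw [algebraMap_eq_mk, ← map_mul, Ideal.Quotient.eq]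
  exact Ideal.mem_span_singleton_self _

lemma xv_mul_xv {i j : Fin 2} (h : i ≠ j) : xv π i * xv π j = algebraMap B (NodeAlg B π) π := by
  fin_cases i <;> fin_cases j
  · exact absurd rfl h
  · exact t_mul_e
  · rw [mul_comm]; exact t_mul_e
  · exact absurd rfl h

lemma eq_single {i j : Fin 2} (h : i ≠ j) {m : Fin 2 →₀ ℕ} (hm : m i = 0) :
    m = Finsupp.single j (m j) := by
  ext k
  have : k = i ∨ k = j := by revert h; fin_cases i <;> fin_cases j <;> fin_cases k <;> simp
  rcases this with rfl | rfl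
  · simp [hm, h]
  · simp

/-- Restriction of a series to the `j`-axis, with coefficients modulo `π`. -/
noncomputable def axis (π : B) (j : Fin 2) : P2 →+* PowerSeries (B ⧸ Ideal.span {π}) where
  toFun f := PowerSeries.mk fun n => Ideal.Quotient.mk _ (coeff (Finsupp.single j n) f)
  map_one' := by
    ext n
    rw [PowerSeries.coeff_mk, coeff_one, PowerSeries.coeff_one]
    split_ifs with h1 h2 h2
    · simp
    · exact absurd (Finsupp.single_eq_zero.1 h1) h2
    · exact absurd (by simp [h2]) h1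
    · simp
  map_mul' f g := by
    ext n
    rw [PowerSeries.coeff_mk, coeff_mul, PowerSeries.coeff_mul, map_sum, Finsupp.antidiagonal_single,
      Finset.sum_map]
    refine Finset.sum_congr rfl fun x _ => ?_
    simp [PowerSeries.coeff_mk]
  map_zero' := by ext n; simp
  map_add' f g := by ext n; simp [PowerSeries.coeff_mk]

lemma coeff_axis (j : Fin 2) (f : P2) (n : ℕ) :
    PowerSeries.coeff n (axis π j f) = Ideal.Quotient.mk _ (coeff (Finsupp.single j n) f) := by
  simp [axis, PowerSeries.coeff_mk]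

lemma axis_X_self (j : Fin 2) : axis π j (X j) = PowerSeries.X := by
  ext n
  rw [coeff_axis, coeff_X, PowerSeries.coeff_X]
  rcases eq_or_ne n 1 with rfl | hn
  · simp
  · rw [if_neg (fun h => hn (Finsupp.single_injective j h)), if_neg hn, map_zero]

lemma axis_X_ne {i j : Fin 2} (h : i ≠ j) : axis π j (X i) = 0 := by
  ext n
  rw [coeff_axis, coeff_X, if_neg, map_zero, map_zero]
  intro h'
  have := DFunLike.congr_fun h' i
  simp [h] at this

lemma axis_C (j : Fin 2) (b : B) : axis π j (C b) = PowerSeries.C (Ideal.Quotient.mk _ b) := by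
  ext n
  rw [coeff_axis, coeff_C, PowerSeries.coeff_C]
  rcases eq_or_ne n 0 with rfl | hn
  · simp
  · rw [if_neg (by simpa using hn), if_neg hn, map_zero]

lemma mem_of_axis_eq_zero {i j : Fin 2} (h : i ≠ j) (f : P2) (hf : axis π j f = 0) :
    f ∈ Ideal.span ({X i, C π} : Set P2) := by
  classical
  have hd : ∀ n, ∃ c, coeff (Finsupp.single j n) f = c * π := fun n => by
    have := congrArg (PowerSeries.coeff n) hf
    rw [coeff_axis, map_zero, Ideal.Quotient.eq_zero_iff_mem, Ideal.mem_span_singleton] at this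
    obtain ⟨c, hc⟩ := this
    exact ⟨c, by rw [hc, mul_comm]⟩
  choose c hc using hd
  let g : P2 := fun m => if m i = 0 then c (m j) else 0
  let q : P2 := fun m => coeff (m + Finsupp.single i 1) f
  refine Ideal.mem_span_pair.2 ⟨q, g, ?_⟩
  ext m
  rw [map_add, mul_comm q, mul_comm g, coeff_C_mul, X, coeff_monomial_mul]
  show (if _ then 1 * q (m - _) else 0) + π * g m = coeff m f
  rcases eq_or_ne (m i) 0 with hm | hm
  · rw [if_neg (by rw [Finsupp.single_le_iff]; omega), zero_add]
    simp only [g, if_pos hm]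
    rw [mul_comm, ← hc, ← eq_single h hm]
  · have hle : Finsupp.single i 1 ≤ m := by rw [Finsupp.single_le_iff]; omega
    rw [if_pos hle, one_mul]
    simp only [g, if_neg hm, q, tsub_add_cancel_of_le hle, mul_zero, add_zero]

/-- The branch `xv i = 0`. -/
noncomputable def branch (π : B) (i j : Fin 2) (h : i ≠ j) :
    NodeAlg B π →+* PowerSeries (B ⧸ Ideal.span {π}) :=
  Ideal.Quotient.lift _ (axis π j) (by
    intro a ha
    obtain ⟨c, rfl⟩ := Ideal.mem_span_singleton.1 ha
    have : axis π j (X 0 * X 1 - C π) = 0 := by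
      rw [map_sub, map_mul, axis_C, Ideal.Quotient.eq_zero_iff_mem.2 (Ideal.mem_span_singleton_self π),
        map_zero, sub_zero]
      fin_cases j
      · rw [mul_comm]
        exact mul_eq_zero_of_left (axis_X_ne (by decide)) _
      · exact mul_eq_zero_of_left (axis_X_ne (by decide)) _
    rw [map_mul, this, zero_mul])

lemma branch_mk {i j : Fin 2} (h : i ≠ j) (f : P2) :
    branch π i j h (Ideal.Quotient.mk _ f) = axis π j f := Ideal.Quotient.lift_mk _ _ _

lemma branch_surjective {i j : Fin 2} (h : i ≠ j) : Function.Surjective (branch π i j h) := by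
  classical
  intro p
  choose r hr using Ideal.Quotient.mk_surjective (I := Ideal.span {π})
  refine ⟨Ideal.Quotient.mk _ (show P2 from fun m => r (PowerSeries.coeff (m j) p)), ?_⟩
  ext n
  rw [branch_mk, coeff_axis, coeff_apply]
  simp [hr]

lemma ker_branch {i j : Fin 2} (h : i ≠ j) :
    RingHom.ker (branch π i j h) = Ideal.span {xv π i} := by
  refine le_antisymm (fun a ha => ?_) ?_
  · obtain ⟨f, rfl⟩ := Ideal.Quotient.mk_surjective a
    rw [RingHom.mem_ker, branch_mk] at ha
    obtain ⟨p, q, rfl⟩ := Ideal.mem_span_pair.1 (mem_of_axis_eq_zero h f ha)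
    rw [map_add, map_mul, map_mul, ← algebraMap_eq_mk, ← xv_mul_xv h]
    exact Ideal.mem_span_singleton.2 ⟨Ideal.Quotient.mk _ p + Ideal.Quotient.mk _ q * xv π j, by
      rw [xv]; ring⟩
  · rw [Ideal.span_singleton_le_iff_mem, RingHom.mem_ker, xv, branch_mk, axis_X_ne h]

lemma dvd_xv_iff {i j : Fin 2} (h : i ≠ j) (a : NodeAlg B π) :
    xv π i ∣ a ↔ branch π i j h a = 0 := by
  rw [← RingHom.mem_ker, ker_branch h, Ideal.mem_span_singleton]

lemma decomp (r : NodeAlg B π) :
    ∃ b : B, r - algebraMap B (NodeAlg B π) b ∈ Ideal.span ({NodeAlg.t π, NodeAlg.e π} : Set _) := by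
  obtain ⟨f, rfl⟩ := Ideal.Quotient.mk_surjective r
  refine ⟨constantCoeff f, ?_⟩
  have : f - C (constantCoeff f) ∈ Ideal.span (Set.range (X : Fin 2 → P2)) :=
    PSAut.mem_span_X_of_constantCoeff _ (by simp)
  have h2 := Ideal.mem_map_of_mem (Ideal.Quotient.mk (Ideal.span {(X 0 * X 1 - C π : P2)})) this
  rw [Ideal.map_span, map_sub, ← algebraMap_eq_mk] at h2
  refine Ideal.span_mono ?_ h2
  rintro _ ⟨_, ⟨k, rfl⟩, rfl⟩
  fin_cases k
  · exact Set.mem_insert _ _
  · exact Set.mem_insert_of_mem _ rfl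

lemma prime_of_axis [(Ideal.span {π}).IsPrime] {i j : Fin 2} (h : i ≠ j)
    (h0 : xv π i ≠ 0) : Prime (xv π i) := by
  refine (Ideal.span_singleton_prime h0).1 ?_
  rw [← ker_branch h]
  exact RingHom.ker_isPrime _

lemma branch_xv_self {i j : Fin 2} (h : i ≠ j) : branch π i j h (xv π j) = PowerSeries.X := by
  rw [xv, branch_mk, axis_X_self]

lemma xv_ne_zero [Nontrivial (B ⧸ Ideal.span {π})] (i : Fin 2) : xv π i ≠ 0 := by
  obtain ⟨j, hj⟩ : ∃ j, j ≠ i := exists_ne i
  intro h
  exact PowerSeries.X_ne_zero (R := B ⧸ Ideal.span {π}) (by rw [← branch_xv_self hj, h, map_zero])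

lemma not_dvd_xv [Nontrivial (B ⧸ Ideal.span {π})] {i j : Fin 2} (h : i ≠ j) :
    ¬ xv π i ∣ xv π j := by
  rw [dvd_xv_iff h, branch_xv_self h]
  exact PowerSeries.X_ne_zero

instance noetherianNode [IsNoetherianRing B] : IsNoetherianRing (NodeAlg B π) :=
  have : IsNoetherianRing P2 := MvPowerSeries.isNoetherianRing (σ := Fin 2) B
  isNoetherianRing_of_surjective P2 _ (Ideal.Quotient.mk _) Ideal.Quotient.mk_surjective

section Local

variable [IsLocalRing B] (hπ : IsLocalRing.maximalIdeal B = Ideal.span {π})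
include hπ

lemma span_isMaximal : (Ideal.span {π}).IsMaximal := hπ ▸ IsLocalRing.maximalIdeal.isMaximal B

lemma nontrivial_node : Nontrivial (NodeAlg B π) :=
  have := span_isMaximal hπ
  ⟨⟨_, _, xv_ne_zero (π := π) 0⟩⟩

lemma isLocalRing_node : IsLocalRing (NodeAlg B π) :=
  have := nontrivial_node hπ
  .of_surjective' (Ideal.Quotient.mk _) Ideal.Quotient.mk_surjective

lemma span_te_isMaximal :
    (Ideal.span ({NodeAlg.t π, NodeAlg.e π} : Set (NodeAlg B π))).IsMaximal := by
  have := span_isMaximal hπ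
  let φ := (PowerSeries.constantCoeff).comp (branch π 0 1 (by decide))
  have hφ : Function.Surjective φ :=
    PowerSeries.constantCoeff_surj.comp (branch_surjective (i := (0 : Fin 2)) (j := 1) (by decide))
  let : Field (B ⧸ Ideal.span {π}) := Ideal.Quotient.field _
  have : Ideal.span ({NodeAlg.t π, NodeAlg.e π} : Set (NodeAlg B π)) = RingHom.ker φ := by
    refine le_antisymm (Ideal.span_le.2 ?_) (fun r hr => ?_)
    · rintro _ (rfl | rfl) <;> rw [SetLike.mem_coe, RingHom.mem_ker, RingHom.comp_apply, branch_mk]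
      · rw [axis_X_ne (π := π) (i := (0 : Fin 2)) (j := 1) (by decide), map_zero]
      · rw [axis_X_self, PowerSeries.constantCoeff_X]
    · obtain ⟨b, hb⟩ := decomp r
      have hb0 : φ (r - algebraMap B (NodeAlg B π) b) = 0 := by
        obtain ⟨p, q, e⟩ := Ideal.mem_span_pair.1 hb
        rw [← e, RingHom.comp_apply, map_add, map_mul, map_mul, branch_mk, branch_mk, axis_X_ne (π := π) (i := (0 : Fin 2)) (j := 1) (by decide),
          axis_X_self, mul_zero, zero_add, map_mul, PowerSeries.constantCoeff_X, mul_zero]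
      rw [map_sub, RingHom.mem_ker.1 hr, zero_sub, neg_eq_zero, algebraMap_eq_mk, RingHom.comp_apply,
        branch_mk, axis_C, PowerSeries.constantCoeff_C, Ideal.Quotient.eq_zero_iff_mem,
        Ideal.mem_span_singleton] at hb0
      obtain ⟨c, rfl⟩ := hb0
      have : algebraMap B (NodeAlg B π) (π * c) ∈ Ideal.span ({NodeAlg.t π, NodeAlg.e π} : Set _) := by
        rw [map_mul, ← t_mul_e, mul_assoc]
        exact Ideal.mul_mem_right _ _ (Ideal.subset_span (by simp))
      simpa using add_mem hb this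
  rw [this]
  exact RingHom.ker_isMaximal_of_surjective φ hφ

lemma maximalIdeal_node :
    letI := isLocalRing_node hπ
    IsLocalRing.maximalIdeal (NodeAlg B π) = Ideal.span ({NodeAlg.t π, NodeAlg.e π} : Set _) :=
  letI := isLocalRing_node hπ
  (IsLocalRing.eq_maximalIdeal (span_te_isMaximal hπ)).symm

lemma mem_of_not_isUnit {x : NodeAlg B π} (hx : ¬ IsUnit x) :
    x ∈ Ideal.span ({NodeAlg.t π, NodeAlg.e π} : Set _) := by
  letI := isLocalRing_node hπ
  rw [← maximalIdeal_node hπ]
  exact hx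

lemma not_isUnit_of_mem {x : NodeAlg B π}
    (hx : x ∈ Ideal.span ({NodeAlg.t π, NodeAlg.e π} : Set (NodeAlg B π))) : ¬ IsUnit x := fun h =>
  (span_te_isMaximal hπ).ne_top (Ideal.eq_top_of_isUnit_mem _ hx h)

lemma len_t_e : len₂ (NodeAlg.t π) (NodeAlg.e π) = 1 :=
  have := span_te_isMaximal hπ
  length_eq_one_of_isMaximal _

lemma jacobson_le : Ideal.span ({NodeAlg.t π, NodeAlg.e π} : Set (NodeAlg B π)) ≤ Ideal.jacobson ⊥ := by
  letI := isLocalRing_node hπ
  rw [← maximalIdeal_node hπ]
  exact IsLocalRing.maximalIdeal_le_jacobson _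

lemma fixIdeal_eq [IsNoetherianRing B] (σ : NodeAlg B π ≃+* NodeAlg B π) (J : Ideal (NodeAlg B π))
    (hB : ∀ b : B, σ (algebraMap B (NodeAlg B π) b) - algebraMap B (NodeAlg B π) b ∈ J)
    (ht : σ (NodeAlg.t π) - NodeAlg.t π ∈ J) (he : σ (NodeAlg.e π) - NodeAlg.e π ∈ J)
    (hle : J ≤ ArLef.fixIdeal σ) : ArLef.fixIdeal σ = J := by
  refine le_antisymm (Ideal.span_le.2 ?_) hle
  rintro _ ⟨r, rfl⟩
  refine sub_mem_of_generators J _ (jacobson_le hπ) ({NodeAlg.t π, NodeAlg.e π}) Ideal.subset_span σ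
    (map_add σ) (map_mul σ) (by rintro g (rfl | rfl) <;> assumption) (fun s => ?_) r
  obtain ⟨b, hb⟩ := decomp s
  exact ⟨_, hB b, hb⟩

end Local

section DVR

variable [IsDomain B] [IsDiscreteValuationRing B] (hπ : Irreducible π)
include hπ

lemma maximalIdeal_eq : IsLocalRing.maximalIdeal B = Ideal.span {π} := hπ.maximalIdeal_eq

lemma xv_mul_eq_zero (i : Fin 2) {a : NodeAlg B π} (ha : xv π i * a = 0) : a = 0 := by
  classical
  obtain ⟨f, rfl⟩ := Ideal.Quotient.mk_surjective a
  rw [xv, ← map_mul, Ideal.Quotient.eq_zero_iff_mem, Ideal.mem_span_singleton] at ha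
  obtain ⟨g, hg⟩ := ha
  obtain ⟨g', rfl⟩ : X i ∣ g := by
    rw [X_dvd_iff]
    intro m hm
    have := congrArg (coeff m) hg
    rw [X, coeff_monomial_mul, if_neg (by rw [Finsupp.single_le_iff]; omega), sub_mul, map_sub,
      coeff_C_mul, X, X, monomial_mul_monomial, coeff_monomial_mul, if_neg, zero_sub,
      zero_eq_neg, mul_eq_zero] at this
    · exact this.resolve_left hπ.ne_zero
    · intro h
      have := h i
      simp only [Finsupp.add_apply] at this
      fin_cases i <;> simp at this hm <;> omega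
  refine Ideal.Quotient.eq_zero_iff_mem.2 (Ideal.mem_span_singleton.2 ⟨g', ?_⟩)
  have hX : (X i : P2) ≠ 0 := by
    intro h
    simpa [coeff_X] using congrArg (coeff (Finsupp.single i 1)) h
  apply mul_left_cancel₀ hX
  rw [hg]; ring

lemma isDomain_node : IsDomain (NodeAlg B π) := by
  have hm := maximalIdeal_eq hπ
  have := span_isMaximal hm
  letI := isLocalRing_node hm
  have : Nontrivial (NodeAlg B π) := nontrivial_node hm
  have hp : Prime (xv π 0) := prime_of_axis (j := 1) (by decide) (xv_ne_zero 0)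
  have hfac : ∀ a : NodeAlg B π, a ≠ 0 → ∃ m a', ¬ xv π 0 ∣ a' ∧ a = xv π 0 ^ m * a' := by
    intro a ha
    by_contra hc
    push Not at hc
    have hdvd : ∀ m, xv π 0 ^ m ∣ a := by
      intro m
      induction m with
      | zero => exact one_dvd _
      | succ m ih =>
        obtain ⟨c, rfl⟩ := ih
        obtain ⟨d, rfl⟩ : xv π 0 ∣ c := by
          by_contra h
          exact hc m c h rfl
        exact ⟨d, by ring⟩
    refine ha ?_
    have := Ideal.iInf_pow_eq_bot_of_isLocalRing (Ideal.span {xv π 0})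
      (fun h => hp.not_unit (Ideal.span_singleton_eq_top.1 h))
    rw [← Ideal.mem_bot, ← this, Ideal.mem_iInf]
    intro n
    rw [Ideal.span_singleton_pow, Ideal.mem_span_singleton]
    exact hdvd n
  have hpow : ∀ n (a : NodeAlg B π), xv π 0 ^ n * a = 0 → a = 0 := by
    intro n
    induction n with
    | zero => intro a ha; simpa using ha
    | succ n ih => intro a ha; exact xv_mul_eq_zero hπ 0 (ih _ (by rw [← mul_assoc, ← pow_succ]; exact ha))
  have : NoZeroDivisors (NodeAlg B π) := by
    constructor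
    intro a b hab
    by_contra hc
    push Not at hc
    obtain ⟨m, a', ha', rfl⟩ := hfac a hc.1
    obtain ⟨n, b', hb', rfl⟩ := hfac b hc.2
    have h0 : a' * b' = 0 := hpow (m + n) _ (by rw [← hab]; ring)
    rcases hp.dvd_or_dvd (h0 ▸ dvd_zero _ : xv π 0 ∣ a' * b') with h | h
    · exact ha' h
    · exact hb' h
  exact NoZeroDivisors.to_isDomain _

lemma prime_xv (i : Fin 2) : Prime (xv π i) := by
  have := span_isMaximal (maximalIdeal_eq hπ)
  obtain ⟨j, hj⟩ : ∃ j, j ≠ i := exists_ne i
  exact prime_of_axis (j := j) hj.symm (xv_ne_zero i)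

lemma prime_t : Prime (NodeAlg.t π) := prime_xv hπ 0
lemma prime_e : Prime (NodeAlg.e π) := prime_xv hπ 1

lemma not_t_dvd_e : ¬ NodeAlg.t π ∣ NodeAlg.e π :=
  have := span_isMaximal (maximalIdeal_eq hπ)
  not_dvd_xv (i := 0) (j := 1) (by decide)

lemma not_e_dvd_t : ¬ NodeAlg.e π ∣ NodeAlg.t π :=
  have := span_isMaximal (maximalIdeal_eq hπ)
  not_dvd_xv (i := 1) (j := 0) (by decide)

lemma algebraMap_pi_ne_zero : algebraMap B (NodeAlg B π) π ≠ 0 := by
  have := isDomain_node hπ
  rw [← t_mul_e]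
  exact mul_ne_zero (prime_t hπ).ne_zero (prime_e hπ).ne_zero

end DVR

end Groth.Agent.H23.Node.Basic
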