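import Groth.Agent.H23.Node.Fix

/-! The double point satisfies the abstract hypotheses. -/

open ArLef
open Groth.Agent.H23.Node.LengthTools Groth.Agent.H23.Node.Basic

namespace Groth.Agent.H23.Node.CtxNode

universe u
variable {B : Type u} [CommRing B] [IsDomain B] [IsDiscreteValuationRing B] {π : B}

lemma ctx (hπ : Irreducible π) {j : ℕ} (hj : 1 ≤ j) {γ : B} (hγ : IsUnit γ)
    (σ : NodeAlg B π ≃+* NodeAlg B π)
    (hσB : ∀ b : B, σ (algebraMap B (NodeAlg B π) b) - algebraMap B (NodeAlg B π) b ∈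
      Ideal.span ({algebraMap B (NodeAlg B π) (π ^ j)} : Set (NodeAlg B π)))
    (hσπ : σ (algebraMap B (NodeAlg B π) π) = algebraMap B (NodeAlg B π) (π + γ * π ^ j)) :
    Fix.Ctx σ (NodeAlg.t π) (NodeAlg.e π) (algebraMap B (NodeAlg B π) γ) j where
  domain := isDomain_node hπ
  prime_t := Basic.prime_t hπ
  prime_e := Basic.prime_e hπ
  not_t_dvd_e := Basic.not_t_dvd_e hπ
  not_e_dvd_t := Basic.not_e_dvd_t hπ
  len_one := len_t_e (maximalIdeal_eq hπ)
  hj := hj
  hg := hγ.map _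
  map_p := by rw [t_mul_e, hσπ]; simp only [map_add, map_mul, map_pow]
  gen := fun J hp ht he hle => fixIdeal_eq (maximalIdeal_eq hπ) σ J
    (fun b => (Ideal.span_singleton_le_iff_mem _).2 (by rwa [map_pow, ← t_mul_e]) (hσB b)) ht he hle

end Groth.Agent.H23.Node.CtxNode
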