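import Groth.Agent.H23.Node.Basic

/-! Fixed ideals of automorphisms of the formal double point stabilising both branches. -/

open ArLef
open Groth.Agent.H23.Node.LengthTools Groth.Agent.H23.Node.Basic

namespace Groth.Agent.H23.Node.Fix

universe u
variable {N : Type u} [CommRing N]

/-- The abstract situation: two primes `tt`, `ee` with quotient of length one, and an automorphism `σ`
moving `p = tt * ee` to `p + g * p ^ j`. -/
structure Ctx (σ : N ≃+* N) (tt ee g : N) (j : ℕ) : Prop where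
  domain : IsDomain N
  prime_t : Prime tt
  prime_e : Prime ee
  not_t_dvd_e : ¬ tt ∣ ee
  not_e_dvd_t : ¬ ee ∣ tt
  len_one : len₂ tt ee = 1
  hj : 1 ≤ j
  hg : IsUnit g
  map_p : σ (tt * ee) = tt * ee + g * (tt * ee) ^ j
  gen : ∀ J : Ideal N, (tt * ee) ^ j ∈ J → σ tt - tt ∈ J → σ ee - ee ∈ J →
    J ≤ ArLef.fixIdeal σ → ArLef.fixIdeal σ = J

variable {σ : N ≃+* N} {tt ee g : N} {j : ℕ}

lemma units_mul (X : Ctx σ tt ee g j) {α β : N} (ht : σ tt = α * tt) (he : σ ee = β * ee) :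
    α * β = 1 + g * (tt * ee) ^ (j - 1) := by
  have := X.domain
  apply mul_right_cancel₀ (mul_ne_zero X.prime_t.ne_zero X.prime_e.ne_zero)
  have h := X.map_p
  rw [map_mul, ht, he] at h
  have hj : (tt * ee) ^ j = (tt * ee) ^ (j - 1) * (tt * ee) := by
    rw [← pow_succ, Nat.sub_add_cancel X.hj]
  rw [hj] at h
  linear_combination h

/-- The fixed ideal when `α - 1 = T a`, `β - 1 = T b` and `γ π ^ (j-1) = T c`. -/
lemma fixIdeal_eq_mul (X : Ctx σ tt ee g j) {α β : Nˣ} (ht : σ tt = (α : N) * tt) (he : σ ee = (β : N) * ee)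
    {T a b c : N} (hT : T ≠ 0) (ha : (α : N) - 1 = T * a) (hb : (β : N) - 1 = T * b)
    (hc : g * (tt * ee) ^ (j - 1) = T * c) :
    (α : N) * b = c - a ∧
      ArLef.fixIdeal σ = Ideal.span {T} * Ideal.span ({a * tt, ee * (a - c)} : Set N) := by
  have := X.domain
  have hab : (α : N) * b = c - a := by
    apply mul_left_cancel₀ hT
    linear_combination units_mul X ht he + hc - ha - (α : N) * hb
  refine ⟨hab, X.gen _ ((Submodule.smul_mem_iff_of_isUnit (r := g) _ X.hg).1 ?_) ?_ ?_ ?_⟩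
  · refine Ideal.mem_span_singleton_mul.2 ⟨tt * ee * c, Ideal.mem_span_pair.2 ⟨ee, -tt, by ring⟩, ?_⟩
    have hj : (tt * ee) ^ j = (tt * ee) ^ (j - 1) * (tt * ee) := by rw [← pow_succ, Nat.sub_add_cancel X.hj]
    linear_combination -g * hj - (tt * ee) * hc
  · refine Ideal.mem_span_singleton_mul.2 ⟨a * tt, Ideal.subset_span (by simp), ?_⟩
    rw [ht]; linear_combination -tt * ha
  · refine Ideal.mem_span_singleton_mul.2 ⟨b * ee, ?_, ?_⟩
    · refine Ideal.mem_span_pair.2 ⟨0, -(↑α⁻¹ : N), ?_⟩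
      linear_combination (↑α⁻¹ : N) * ee * hab * (-1) + b * ee * α.inv_mul
    · rw [he]; linear_combination -ee * hb
  · rw [Ideal.mul_le]
    intro r hr s hs
    obtain ⟨r, rfl⟩ := Ideal.mem_span_singleton'.1 hr
    obtain ⟨p, q, rfl⟩ := Ideal.mem_span_pair.1 hs
    have h1 : T * (a * tt) ∈ ArLef.fixIdeal σ := Ideal.subset_span ⟨tt, by
      show σ tt - tt = _
      rw [ht]; linear_combination tt * ha⟩
    have h2 : T * (ee * (a - c)) ∈ ArLef.fixIdeal σ := by
      have h0 : σ ee - ee ∈ ArLef.fixIdeal σ := Ideal.subset_span ⟨ee, rfl⟩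
      convert Ideal.mul_mem_left _ (-(α : N)) h0 using 1
      rw [he]; linear_combination (α : N) * ee * hb + T * ee * hab
    convert add_mem (Ideal.mul_mem_left _ (r * p) h1) (Ideal.mul_mem_left _ (r * q) h2) using 1
    ring

/-- Lengths for the colon ideal. -/
lemma length_colon (X : Ctx σ tt ee g j) {α β : Nˣ} (ht : σ tt = (α : N) * tt) (he : σ ee = (β : N) * ee)
    {i₁ i₂ : ℕ} (h1 : i₁ < j) (h2 : i₂ < j) {a b : N}
    (ha : (α : N) - 1 = tt ^ i₁ * ee ^ i₂ * a) (hb : (β : N) - 1 = tt ^ i₁ * ee ^ i₂ * b)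
    (hea : ¬ ee ∣ a) (htb : ¬ tt ∣ b) :
    Module.length N (N ⧸ (ArLef.fixIdeal σ).colon ({tt ^ i₁ * ee ^ i₂} : Set N)) =
      1 + ((j - i₁ : ℕ) : ℕ∞) * len₂ tt b + ((j - i₂ : ℕ) : ℕ∞) * len₂ ee a := by
  have := X.domain
  have hT : tt ^ i₁ * ee ^ i₂ ≠ (0 : N) :=
    mul_ne_zero (pow_ne_zero _ X.prime_t.ne_zero) (pow_ne_zero _ X.prime_e.ne_zero)
  obtain ⟨n, hn⟩ : ∃ n, j - 1 = i₁ + n := ⟨j - 1 - i₁, by omega⟩
  obtain ⟨m, hm⟩ : ∃ m, j - 1 = i₂ + m := ⟨j - 1 - i₂, by omega⟩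
  set c : N := g * (tt ^ n * ee ^ m) with hc
  have hc' : g * (tt * ee) ^ (j - 1) = tt ^ i₁ * ee ^ i₂ * c := by
    rw [mul_pow]
    conv_lhs => enter [2, 1]; rw [hn]
    conv_lhs => enter [2, 2]; rw [hm]
    rw [hc, pow_add, pow_add]; ring
  obtain ⟨hab, hfix⟩ := fixIdeal_eq_mul X ht he hT ha hb hc'
  rw [hfix, colon_mul _ _ fun x y h => mul_left_cancel₀ hT h]
  have hac : ¬ tt ∣ a - c := by
    intro h
    apply htb
    have : tt ∣ (α : N) * b := by rw [hab, show c - a = -(a - c) by ring]; exact (dvd_neg).2 h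
    exact (Units.dvd_mul_left).1 this
  have k1 : len₂ (a * tt) (ee * (a - c)) = len₂ tt (ee * (a - c)) + len₂ a (ee * (a - c)) := by
    rw [mul_comm a]
    refine len₂_mul_left _ _ _ (regular_of_prime X.prime_t fun h => ?_)
    exact (X.prime_t.dvd_or_dvd h).elim X.not_t_dvd_e hac
  have k2 : len₂ tt (ee * (a - c)) = 1 + len₂ tt b := by
    rw [len₂_comm, len₂_mul_left _ _ _ (regular_of_prime X.prime_e X.not_e_dvd_t), len₂_comm,
      X.len_one, len₂_comm (a - c),
      show a - c = -(α : N) * b by linear_combination hab, len₂_neg_unit_mul _ _ α.isUnit]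
  have k3 : len₂ a (ee * (a - c)) = len₂ a ee + len₂ a c := by
    rw [len₂_comm, len₂_mul_left _ _ _ (regular_of_prime X.prime_e hea), len₂_comm ee,
      len₂_comm (a - c)]
    congr 1
    rw [len₂_congr a (y' := -c) ⟨1, by ring⟩, len₂_neg]
  have k4 : len₂ a c = (n : ℕ∞) * len₂ tt b + (m : ℕ∞) * len₂ a ee := by
    rw [hc, len₂_unit_mul _ _ X.hg]
    rcases Nat.eq_zero_or_pos n with rfl | hn0
    · rw [pow_zero, one_mul, len₂_comm, len₂_pow_left _ _ (regular_of_prime X.prime_e hea),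
        len₂_comm ee]
      simp
    · have htc : tt ∣ c := by
        rw [hc]; exact (dvd_mul_of_dvd_left (dvd_pow_self _ hn0.ne') _).mul_left _
      have hta : ¬ tt ∣ a := fun h => hac (dvd_sub h htc)
      have hla : len₂ tt a = len₂ tt b := by
        rw [← len₂_neg_unit_mul tt b α.isUnit,
          show -(α : N) * b = a - c by linear_combination -hab]
        exact len₂_congr tt (htc.elim fun w hw => ⟨w, by rw [hw]; ring⟩)
      rw [len₂_comm, len₂_mul_left _ _ _ ?_, len₂_pow_left _ _ (regular_of_prime X.prime_t hta),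
        len₂_pow_left _ _ (regular_of_prime X.prime_e hea), hla, len₂_comm ee]
      · exact regular_pow _ _ (regular_of_prime X.prime_t hta) n
  show len₂ _ _ = _
  rw [k1, k2, k3, k4, len₂_comm ee, show j - i₁ = n + 1 by omega, show j - i₂ = m + 1 by omega]
  push_cast
  ring

/-- Lengths for the colon ideal at maximal multiplicity. -/
lemma length_colon_max (X : Ctx σ tt ee g j) {α β : Nˣ} (ht : σ tt = (α : N) * tt) (he : σ ee = (β : N) * ee)
    {i₁ : ℕ} (h1 : i₁ < j) {a b : N}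
    (ha : (α : N) - 1 = tt ^ i₁ * ee ^ j * a) (hb : (β : N) - 1 = tt ^ i₁ * ee ^ (j - 1) * b)
    (htb : ¬ tt ∣ b) :
    Module.length N (N ⧸ (ArLef.fixIdeal σ).colon ({tt ^ i₁ * ee ^ j} : Set N)) +
        ((j - 1 - i₁ : ℕ) : ℕ∞) = ((j - i₁ : ℕ) : ℕ∞) * len₂ tt b := by
  have := X.domain
  have hT : tt ^ i₁ * ee ^ (j - 1) ≠ (0 : N) :=
    mul_ne_zero (pow_ne_zero _ X.prime_t.ne_zero) (pow_ne_zero _ X.prime_e.ne_zero)
  obtain ⟨n, hn⟩ : ∃ n, j - 1 = i₁ + n := ⟨j - 1 - i₁, by omega⟩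
  have hej : ee ^ j = ee ^ (j - 1) * ee := by rw [← pow_succ, Nat.sub_add_cancel X.hj]
  set c : N := g * tt ^ n with hc
  have hc' : g * (tt * ee) ^ (j - 1) = tt ^ i₁ * ee ^ (j - 1) * c := by
    rw [mul_pow]
    conv_lhs => enter [2, 1]; rw [hn]
    rw [hc, pow_add]; ring
  obtain ⟨hab, hfix⟩ := fixIdeal_eq_mul X ht he hT (a := ee * a)
    (by rw [ha, hej]; ring) hb hc'
  have hT' : tt ^ i₁ * ee ^ j ≠ (0 : N) :=
    mul_ne_zero (pow_ne_zero _ X.prime_t.ne_zero) (pow_ne_zero _ X.prime_e.ne_zero)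
  have hfix' : ArLef.fixIdeal σ =
      Ideal.span {tt ^ i₁ * ee ^ j} * Ideal.span ({a * tt, ee * a - c} : Set N) := by
    rw [hfix, Ideal.span_mul_span', Ideal.span_mul_span', Set.singleton_mul, Set.singleton_mul,
      Set.image_pair, Set.image_pair, hej]
    congr 2 <;> [ring; (congr 1; ring)]
  rw [hfix', colon_mul _ _ fun x y h => mul_left_cancel₀ hT' h]
  have hg : ¬ tt ∣ ee * a - c := fun h => htb (by
    have : tt ∣ (α : N) * b := by rw [hab, show c - ee * a = -(ee * a - c) by ring]; exact dvd_neg.2 h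
    exact (Units.dvd_mul_left).1 this)
  have k1 : len₂ (a * tt) (ee * a - c) = len₂ tt (ee * a - c) + len₂ a (ee * a - c) := by
    rw [mul_comm a]
    exact len₂_mul_left _ _ _ (regular_of_prime X.prime_t hg)
  have k2 : len₂ tt (ee * a - c) = len₂ tt b := by
    rw [show ee * a - c = -(α : N) * b by linear_combination hab, len₂_neg_unit_mul _ _ α.isUnit]
  have k3 : len₂ a (ee * a - c) = len₂ a (tt ^ n) := by
    rw [len₂_congr a (y' := -(g) * tt ^ n) ⟨ee, by rw [hc]; ring⟩,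
      len₂_neg_unit_mul _ _ X.hg]
  show len₂ _ _ + _ = _
  rw [k1, k2, k3, show j - 1 - i₁ = n by omega, show j - i₁ = n + 1 by omega]
  rcases Nat.eq_zero_or_pos n with rfl | hn0
  · rw [pow_zero, len₂_unit _ isUnit_one]; simp
  · have htc : tt ∣ c := by rw [hc]; exact (dvd_pow_self _ hn0.ne').mul_left _
    have hta : ¬ tt ∣ a := fun h => hg (dvd_sub (h.mul_left _) htc)
    have hla : len₂ tt b = 1 + len₂ tt a := by
      rw [← k2, len₂_congr tt (y' := ee * a) (htc.elim fun w hw => ⟨-w, by rw [hw]; ring⟩), len₂_comm,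
        len₂_mul_left _ _ _ (regular_of_prime X.prime_e X.not_e_dvd_t), len₂_comm,
        X.len_one, len₂_comm a]
    rw [len₂_comm a, len₂_pow_left _ _ (regular_of_prime X.prime_t hta), hla]
    push_cast
    ring

end Groth.Agent.H23.Node.Fix
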