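import Groth.Prelude.Def_W4c2arithlefschetzNode
import Groth.Agent.H23.Node.LengthTools
import Mathlib.RingTheory.PowerSeries.NoZeroDivisors
import Mathlib.RingTheory.PowerSeries.Ideal
import Mathlib.RingTheory.PowerSeries.Inverse
import Mathlib.RingTheory.DiscreteValuationRing.Basic
import Mathlib.RingTheory.LocalRing.ResidueField.Basic

/-! Fixed ideals at a smooth point of an arithmetic surface. -/

open Groth.Agent.H23.Node.LengthTools

namespace Groth.Agent.H23.Node.Smooth

universe u
variable {B : Type u} [CommRing B] [IsDomain B] [IsDiscreteValuationRing B] {π : B}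

local notation "P" => algebraMap B (PowerSeries B) π
local notation "red" => PowerSeries.map (IsLocalRing.residue B)

lemma red_surjective : Function.Surjective (red : PowerSeries B →+* PowerSeries (IsLocalRing.ResidueField B)) := by
  intro g
  choose s hs using IsLocalRing.residue_surjective (R := B)
  exact ⟨PowerSeries.mk fun n => s (PowerSeries.coeff n g), by ext n; simp [PowerSeries.coeff_mk, hs]⟩

lemma red_eq_zero_iff (hπ : Irreducible π) (f : PowerSeries B) : red f = 0 ↔ P ∣ f := by
  constructor
  · intro h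
    have : ∀ n, π ∣ PowerSeries.coeff n f := fun n => by
      have := congrArg (PowerSeries.coeff n) h
      rw [PowerSeries.coeff_map, map_zero, IsLocalRing.residue_eq_zero_iff, hπ.maximalIdeal_eq,
        Ideal.mem_span_singleton] at this
      exact this
    choose c hc using this
    refine ⟨PowerSeries.mk c, ?_⟩
    ext n
    rw [PowerSeries.algebraMap_eq, PowerSeries.coeff_C_mul, PowerSeries.coeff_mk, hc]
  · rintro ⟨c, rfl⟩
    rw [map_mul, PowerSeries.algebraMap_eq, PowerSeries.map_C,
      (IsLocalRing.residue_eq_zero_iff π).2 (by rw [hπ.maximalIdeal_eq]; exact Ideal.mem_span_singleton_self π),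
      map_zero, zero_mul]

lemma prime_P (hπ : Irreducible π) : Prime (P) := by
  have h0 : P ≠ 0 := by
    rw [PowerSeries.algebraMap_eq]
    exact fun h => hπ.ne_zero (PowerSeries.C_injective (h.trans (map_zero _).symm))
  refine (Ideal.span_singleton_prime h0).1 ?_
  have : Ideal.span {P} = RingHom.ker (red : PowerSeries B →+* _) := by
    ext f; rw [RingHom.mem_ker, red_eq_zero_iff hπ, Ideal.mem_span_singleton]
  rw [this]
  exact RingHom.ker_isPrime _

lemma length_P_f (hπ : Irreducible π) (f : PowerSeries B) :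
    len₂ P f = Module.length (PowerSeries (IsLocalRing.ResidueField B))
      (PowerSeries (IsLocalRing.ResidueField B) ⧸ Ideal.span ({red f} : Set _)) := by
  letI : Algebra (PowerSeries B) (PowerSeries (IsLocalRing.ResidueField B)) := RingHom.toAlgebra red
  set Q := PowerSeries (IsLocalRing.ResidueField B) ⧸ Ideal.span ({red f} : Set _)
  have hs : Function.Surjective (algebraMap (PowerSeries B) Q) :=
    Ideal.Quotient.mk_surjective.comp red_surjective
  have hker : Ideal.span ({P, f} : Set (PowerSeries B)) = RingHom.ker (algebraMap (PowerSeries B) Q) := by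
    ext r
    rw [RingHom.mem_ker]
    show _ ↔ Ideal.Quotient.mk _ (red r) = 0
    rw [Ideal.Quotient.eq_zero_iff_mem, Ideal.mem_span_singleton, Ideal.mem_span_pair]
    constructor
    · rintro ⟨a, b, rfl⟩
      refine ⟨red b, ?_⟩
      rw [map_add, map_mul, map_mul, (red_eq_zero_iff hπ (P)).2 dvd_rfl, mul_zero, zero_add, mul_comm]
    · rintro ⟨s, hs'⟩
      obtain ⟨s, rfl⟩ := red_surjective s
      obtain ⟨a, ha⟩ := (red_eq_zero_iff hπ (r - f * s)).1 (by rw [map_sub, map_mul, hs', sub_self])
      exact ⟨a, s, by linear_combination -ha⟩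
  have e1 : (PowerSeries B ⧸ Ideal.span ({P, f} : Set (PowerSeries B))) ≃ₗ[PowerSeries B] Q :=
    (Submodule.quotEquivOfEq _ _ (show Ideal.span ({P, f} : Set (PowerSeries B)) =
      LinearMap.ker (Algebra.linearMap (PowerSeries B) Q) by rw [hker]; ext; rfl)).trans
      ((Algebra.linearMap (PowerSeries B) Q).quotKerEquivOfSurjective hs)
  rw [len₂, e1.length_eq]
  exact Module.length_eq_of_surjective red_surjective

lemma length_colon (hπ : Irreducible π) {j i : ℕ} (hij : i ≤ j) (hj : 1 ≤ j) {γ : B} (hγ : IsUnit γ)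
    (σ : PowerSeries B ≃+* PowerSeries B)
    (hσB : ∀ b : B, σ (algebraMap B (PowerSeries B) b) - algebraMap B (PowerSeries B) b ∈
      Ideal.span ({algebraMap B (PowerSeries B) (π ^ j)} : Set (PowerSeries B)))
    (hσπ : σ P = algebraMap B (PowerSeries B) (π + γ * π ^ j))
    (f : PowerSeries B) (hf : σ PowerSeries.X - PowerSeries.X = P ^ i * f) (hfπ : ¬ P ∣ f) :
    Module.length (PowerSeries B) (PowerSeries B ⧸ (ArLef.fixIdeal σ).colon ({P ^ i} : Set (PowerSeries B))) =
      ((j - i : ℕ) : ℕ∞) * Module.length (PowerSeries (IsLocalRing.ResidueField B))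
        (PowerSeries (IsLocalRing.ResidueField B) ⧸ Ideal.span ({red f} : Set _)) := by
  obtain ⟨n, rfl⟩ := Nat.exists_eq_add_of_le hij
  have hP := prime_P hπ
  have hpow : algebraMap B (PowerSeries B) (π ^ (i + n)) = P ^ i * P ^ n := by rw [map_pow, pow_add]
  set J := Ideal.span {P ^ i} * Ideal.span ({P ^ n, f} : Set (PowerSeries B)) with hJ
  have hpJ : P ^ i * P ^ n ∈ J := Ideal.mul_mem_mul (Ideal.mem_span_singleton_self _) (Ideal.subset_span (by simp))
  have hXJ : σ PowerSeries.X - PowerSeries.X ∈ J :=
    hf ▸ Ideal.mul_mem_mul (Ideal.mem_span_singleton_self _) (Ideal.subset_span (by simp))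
  have hXm : (PowerSeries.X : PowerSeries B) ∈ Ideal.jacobson (⊥ : Ideal (PowerSeries B)) :=
    IsLocalRing.maximalIdeal_le_jacobson _ (fun h => by simpa using PowerSeries.isUnit_constantCoeff _ h)
  have hfix : ArLef.fixIdeal σ = J := by
    refine le_antisymm (Ideal.span_le.2 ?_) ?_
    · rintro _ ⟨r, rfl⟩
      refine sub_mem_of_generators J (Ideal.span {PowerSeries.X}) ((Ideal.span_singleton_le_iff_mem _).2 hXm)
        {PowerSeries.X} Ideal.subset_span σ (map_add σ) (map_mul σ) (by rintro g rfl; exact hXJ) (fun s => ?_) r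
      refine ⟨algebraMap B _ (PowerSeries.constantCoeff s),
        (Ideal.span_singleton_le_iff_mem _).2 (hpow ▸ hpJ) (hσB _), ?_⟩
      rw [Ideal.mem_span_singleton, PowerSeries.X_dvd_iff, map_sub, PowerSeries.algebraMap_eq,
        PowerSeries.constantCoeff_C, sub_self]
    · rw [hJ, Ideal.span_mul_span', Ideal.span_le, Set.singleton_mul, Set.image_pair]
      rintro _ (rfl | rfl)
      · have h0 : algebraMap B (PowerSeries B) γ * (P ^ i * P ^ n) ∈ ArLef.fixIdeal σ := by
          rw [← hpow]
          refine Ideal.subset_span ⟨P, ?_⟩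
          simp only [hσπ, map_add, map_mul, add_sub_cancel_left]
        exact (Submodule.smul_mem_iff_of_isUnit (r := algebraMap B (PowerSeries B) γ) _ (hγ.map _)).1 h0
      · exact Ideal.subset_span ⟨PowerSeries.X, hf⟩
  rw [hfix, hJ, colon_mul _ _ (fun x y h => mul_left_cancel₀ (pow_ne_zero _ hP.ne_zero) h),
    Nat.add_sub_cancel_left]
  show len₂ (P ^ n) f = _
  rw [len₂_pow_left _ _ (regular_of_prime hP hfπ), length_P_f hπ]

end Groth.Agent.H23.Node.Smooth
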