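import Groth.Agent.H23.Node.CtxNode

/-! Automorphisms switching the branches of the formal double point. -/

open ArLef
open Groth.Agent.H23.Node.LengthTools Groth.Agent.H23.Node.Basic

namespace Groth.Agent.H23.Node.Switch

universe u
variable {B : Type u} [CommRing B] [IsDomain B] [IsDiscreteValuationRing B] {π : B}

lemma not_mem_sq (hπ : Irreducible π) (α : NodeAlg B π) :
    NodeAlg.e π * α - NodeAlg.t π ∉
      (Ideal.span ({NodeAlg.t π, NodeAlg.e π} : Set (NodeAlg B π))) ^ 2 := by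
  have := span_isMaximal (maximalIdeal_eq hπ)
  intro hh
  have h10 : (1 : Fin 2) ≠ 0 := by decide
  let φ := branch π 1 0 h10
  have e1 : φ (NodeAlg.e π) = 0 := (dvd_xv_iff h10 _).1 dvd_rfl
  have e0 : φ (NodeAlg.t π) = PowerSeries.X := branch_xv_self h10
  have := Ideal.mem_map_of_mem φ hh
  rw [Ideal.map_pow, Ideal.map_span, Set.image_pair, e0, e1, map_sub, map_mul, e1, e0,
    zero_mul, zero_sub, neg_mem_iff] at this
  have hle : Ideal.span ({PowerSeries.X, 0} : Set (PowerSeries (B ⧸ Ideal.span {π}))) ≤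
      Ideal.span {PowerSeries.X} := by
    rw [Ideal.span_le]
    rintro _ (rfl | rfl)
    · exact Ideal.mem_span_singleton_self _
    · exact zero_mem _
  have := Ideal.pow_right_mono hle 2 this
  rw [Ideal.span_singleton_pow, Ideal.mem_span_singleton, PowerSeries.X_pow_dvd_iff] at this
  simpa using this 1 (by norm_num)

variable {N : Type u} [CommRing N] {σ : N ≃+* N} {tt ee g : N} {j : ℕ}

lemma switch_fix (X : Fix.Ctx σ tt ee g j) {α β : Nˣ} (ht : σ tt = ee * α) (he : σ ee = tt * β) :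
    ArLef.fixIdeal σ = Ideal.span ({ee * α - tt, ee ^ (2 * j - 1)} : Set N) := by
  have := X.domain
  obtain ⟨n, hn⟩ : ∃ n, j = n + 1 := ⟨j - 1, by have := X.hj; omega⟩
  have hab : (α : N) * β = 1 + g * (tt * ee) ^ n := by
    apply mul_right_cancel₀ (mul_ne_zero X.prime_t.ne_zero X.prime_e.ne_zero)
    have h := X.map_p
    rw [map_mul, ht, he, hn, pow_succ] at h
    linear_combination h
  obtain ⟨q, hq⟩ := sub_dvd_pow_sub_pow (ee * (α : N)) tt n
  have hse : σ ee - ee = (g * (α : N) ^ n) * ee ^ (2 * j - 1)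
      + (-(β : N) - g * ee ^ (n + 1) * q) * (ee * α - tt) := by
    rw [he, show 2 * j - 1 = n + (n + 1) by omega]
    have e : tt ^ n = ee ^ n * (α : N) ^ n - (ee * α - tt) * q := by
      rw [← mul_pow, ← hq]; ring
    linear_combination ee * hab + (g * ee * ee ^ n) * e
  have hu : IsUnit (g * (α : N) ^ n) := X.hg.mul (α.isUnit.pow n)
  have hmem : ee ^ (2 * j - 1) ∈ Ideal.span ({ee * (α : N) - tt, ee ^ (2 * j - 1)} : Set N) :=
    Ideal.subset_span (by simp)
  have hmem' : ee * (α : N) - tt ∈ Ideal.span ({ee * (α : N) - tt, ee ^ (2 * j - 1)} : Set N) :=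
    Ideal.subset_span (by simp)
  refine X.gen _ ?_ ?_ ?_ ?_
  · have : (tt * ee) ^ j = (tt * ee ^ j) * ((ee * α) ^ n - (ee * α - tt) * q) := by
      rw [← hq, hn]; ring
    rw [this, mul_sub]
    refine sub_mem ?_ (Ideal.mul_mem_left _ _ (Ideal.mul_mem_right _ _ hmem'))
    have e : tt * ee ^ j * (ee * (α : N)) ^ n = (tt * (α : N) ^ n) * ee ^ (2 * j - 1) := by
      rw [mul_pow, show 2 * j - 1 = j + n by omega, pow_add]; ring
    rw [e]
    exact Ideal.mul_mem_left _ _ hmem
  · rw [ht]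
    exact hmem'
  · rw [hse]
    exact add_mem (Ideal.mul_mem_left _ _ hmem) (Ideal.mul_mem_left _ _ hmem')
  · have h1 : ee * (α : N) - tt ∈ ArLef.fixIdeal σ := Ideal.subset_span ⟨tt, by
      show σ tt - tt = _
      rw [ht]⟩
    rw [Ideal.span_le]
    rintro _ (rfl | rfl)
    · exact h1
    · rw [SetLike.mem_coe, ← Submodule.smul_mem_iff_of_isUnit (r := g * (α : N) ^ n) _ hu, smul_eq_mul,
        show g * (α : N) ^ n * ee ^ (2 * j - 1) = (σ ee - ee)
          - (-(β : N) - g * ee ^ (n + 1) * q) * (ee * α - tt) by rw [hse]; ring]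
      exact sub_mem (Ideal.subset_span ⟨ee, rfl⟩) (Ideal.mul_mem_left _ _ h1)

end Groth.Agent.H23.Node.Switch
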